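import Cfsg.Agent.Lib.QuadStab.Systems

/-!
A `p`-stable saturated system, `p` odd, is constrained.
-/

set_option autoImplicit false

namespace Cfsg.Agent.Lib.Fusion

open Cfsg Cfsg.FusionSystem

universe u

variable {Ω : Type u} [Group Ω] {S : Subgroup Ω} {F : FusionSystem S} {p : ℕ} [Fact p.Prime]

theorem IsPStableSystem.isConstrained (hp : p ≠ 2) [Finite S] (hS : IsPGroup p S)
    (hF : F.IsSaturated p) (h : IsPStableSystem F p) : F.IsConstrained p := by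
  classical
  set Q := F.core with hQdef
  have hQ : F.IsNormal Q := FusionFactor.isNormal_core F
  have hmax : ∀ X, F.IsNormal X → X ≤ Q := fun X hX => le_sSup hX
  have hQsc := stronglyClosed_of_isNormal hQ
  have hQS := hQ.1
  haveI : Finite Q := finite_of_le hQS
  by_cases hc : centralizerIn S Q ≤ Q
  · refine ⟨hF, Q, hQ, hQ.1, fun R hR => ?_⟩
    obtain ⟨φ, hφ, rfl⟩ := hR
    rw [range_eq_self hφ (fun x => Fusion87.stronglyClosed_apply hQsc hφ x x.2)]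
    exact hc
  exfalso
  set C := centralizerIn S Q with hC
  have hCS : C ≤ S := inf_le_left
  have hCp : IsPGroup p C := hS.to_le hCS
  haveI : Finite C := finite_of_le hCS
  have hcommQ : ∀ c ∈ C, ∀ x ∈ Q, x * c = c * x := fun c hc x hx =>
    Subgroup.mem_centralizer_iff.mp hc.2 x hx
  have hQn := isFullyNormalized_of_isNormal hQ
  obtain ⟨N, hN⟩ := exists_centralizerSystem F hQS
  have hNsat : N.IsSaturated p := isSaturated_centralizerSystem hS hF
    (isFullyCentralized_of_isFullyNormalized hS hF hQn) hN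
  have hNsub : N.IsSubsystemOf F := fun P φ hφ => by rw [hN P] at hφ; exact hφ.1
  have hNst : IsPStableSystem N p := h.of_subsystem hCS hNsub
  -- the central subgroup `Z = C ⊓ Q`
  set Z := C ⊓ Q with hZ
  have hZext : ∀ P φ, φ ∈ N.Hom P → ∃ ψ ∈ N.Hom (P ⊔ Z),
      (∀ x : P, ψ (Subgroup.inclusion le_sup_left x) = φ x) ∧
      ∀ x : Z, ψ (Subgroup.inclusion le_sup_right x) = x := by
    intro P φ hφ
    rw [hN P] at hφ
    obtain ⟨-, hPC, hφC, ψ, hψ, hψP, hψQ⟩ := hφ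
    have hle : P ⊔ Z ≤ P ⊔ Q := sup_le_sup_left inf_le_right _
    refine ⟨ψ.comp (Subgroup.inclusion hle), ?_, fun x => hψP x, fun x => hψQ ⟨x, x.2.2⟩⟩
    rw [hN (P ⊔ Z)]
    have hle' : (P ⊔ Z) ⊔ Q ≤ P ⊔ Q := sup_le hle le_sup_right
    refine ⟨restrict_mem hψ hle, sup_le hPC inf_le_left, fun y => ?_,
      ψ.comp (Subgroup.inclusion hle'), restrict_mem hψ hle', fun y => rfl, fun y => hψQ y⟩
    have key : P ⊔ Z ≤ (C.comap ψ).map (P ⊔ Q).subtype := by
      refine sup_le (fun x hx => ⟨⟨x, Subgroup.mem_sup_left hx⟩, ?_, rfl⟩)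
        fun x hx => ⟨⟨x, Subgroup.mem_sup_right hx.2⟩, ?_, rfl⟩
      · show ψ _ ∈ C
        rw [show (⟨x, _⟩ : (P ⊔ Q : Subgroup Ω)) = Subgroup.inclusion le_sup_left ⟨x, hx⟩ from rfl, hψP]
        exact hφC ⟨x, hx⟩
      · show ψ _ ∈ C
        rw [show (⟨x, _⟩ : (P ⊔ Q : Subgroup Ω)) = Subgroup.inclusion le_sup_right ⟨x, hx.2⟩ from rfl, hψQ]
        exact hx.1
    obtain ⟨z, hz, hze⟩ := key y.2
    show ψ (Subgroup.inclusion hle y) ∈ C
    rw [show Subgroup.inclusion hle y = z from Subtype.ext hze.symm]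
    exact hz
  have hin : ∀ P, N.Hom P ⊆ extHom N Z C (autInducedBy C Z) P := by
    intro P φ hφ
    obtain ⟨ψ, hψ, hψP, hψZ⟩ := hZext P φ hφ
    exact ⟨hφ, src_le hφ, val_mem hφ, ψ, hψ, hψP, 1, Subgroup.one_mem _, hψZ⟩
  have hZn : N.IsNormal Z := by
    refine ⟨inf_le_left, fun P φ hφ => ?_⟩
    obtain ⟨ψ, hψ, hψP, hψZ⟩ := hZext P φ hφ
    refine ⟨ψ, hψ, hψP, le_antisymm ?_ fun z hz => ?_⟩
    · rintro _ ⟨y, hy, rfl⟩
      rw [show ψ y = ((⟨y, hy⟩ : Z) : Ω) from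
        (congrArg ψ (Subtype.ext rfl : y = Subgroup.inclusion le_sup_right ⟨(y : Ω), hy⟩)).trans (hψZ _)]
      exact hy
    · exact ⟨Subgroup.inclusion le_sup_right ⟨z, hz⟩, hz, hψZ ⟨z, hz⟩⟩
  haveI : (Z.subgroupOf C).Normal := ⟨fun z hz c => by
    show ((c * z * c⁻¹ : C) : Ω) ∈ Z
    rw [Subgroup.coe_mul, Subgroup.coe_mul, ← hcommQ c c.2 z hz.2, Subgroup.coe_inv,
      mul_inv_cancel_right]
    exact hz⟩
  let θ : C →* ↥C ⧸ Z.subgroupOf C := QuotientGroup.mk' _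
  have hθ : ∀ c : C, θ c = 1 ↔ (c : Ω) ∈ Z := fun c => QuotientGroup.eq_one_iff c
  have hrange : θ.range = ⊤ :=
    MonoidHom.range_eq_top_of_surjective θ (QuotientGroup.mk'_surjective _)
  obtain ⟨E, hE⟩ := FusionFactor.exists_factorSystem
    (S' := (⊤ : Subgroup (↥C ⧸ Z.subgroupOf C))) θ N (stronglyClosed_of_isNormal hZn) hθ hrange
  have hEsat : E.IsSaturated p := isSaturated_of_surjectiveMorphism hCp hNsat
    (isSurjectiveMorphism_of_isFactorSystem hCp hNsat (stronglyClosed_of_isNormal hZn) hE)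
  have hC' : IsPGroup p (⊤ : Subgroup (↥C ⧸ Z.subgroupOf C)) :=
    (hCp.to_quotient _).to_subgroup ⊤
  set V' := wSub (fun Q [Group Q] => zjA Q) (⊤ : Subgroup (↥C ⧸ Z.subgroupOf C))
  have hV'n : E.IsNormal V' :=
    (hNst.of_factor hp hCp hZn hin hE).zjA_isNormal hp hC' hEsat
  set V := preimageAlong θ V' with hV
  have hVn : N.IsNormal V := isNormal_preimage hCp hNsat hZn hin hC' hE hV'n
  have hVmem : ∀ c : C, (c : Ω) ∈ V ↔ θ c ∈ V' := fun c => by
    rw [hV, mem_preimageAlong_iff]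
    exact ⟨fun ⟨_, h⟩ => h, fun h => ⟨c.2, h⟩⟩
  have hVC : V ≤ C := hVn.1
  have htop : (⊤ : Subgroup (↥C ⧸ Z.subgroupOf C)) ≠ ⊥ := by
    intro e
    apply hc
    intro x hx
    exact ((hθ ⟨x, hx⟩).1 (Subgroup.mem_bot.mp (e ▸ Subgroup.mem_top (θ ⟨x, hx⟩)))).2
  -- `V` is stable under the automorphisms extending those of `Q`
  have hclose : ∀ (U : Subgroup Ω) (ψ : U →* Ω), ψ ∈ F.Hom U → Q ≤ U → imgSub ψ Q = Q →
      ∀ v : U, (v : Ω) ∈ V → ψ v ∈ V := by
    intro U ψ hψ hQU hψQ v hv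
    obtain ⟨ψ₀, hψ₀, hψ₀e⟩ := (isReceptive_of_isFullyNormalized hS hF hQn).2 Q
      (ψ.comp (Subgroup.inclusion hQU)) (restrict_mem hψ hQU) ((range_restrict ψ hQU).trans hψQ)
    set W := Q ⊔ C with hW
    have hWe : W ≤ extender S Q (ψ.comp (Subgroup.inclusion hQU)) :=
      sup_centralizerIn_le_extender (restrict_mem hψ hQU)
    haveI : Finite W := finite_of_le (sup_le hQS hCS)
    have hψ₀Q : imgSub ψ₀ Q = Q := (imgSub_of_agree (le_sup_left.trans hWe) hψ₀e).trans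
      ((range_restrict ψ hQU).trans hψQ)
    have hQimg : ∀ (x : Ω) (hx : x ∈ Q), ψ₀ ⟨x, hWe (Subgroup.mem_sup_left hx)⟩ ∈ Q :=
      fun x hx => hψ₀Q.le (apply_mem_imgSub ψ₀ _ hx)
    have hCimg : ∀ (x : Ω) (hx : x ∈ C), ψ₀ ⟨x, hWe (Subgroup.mem_sup_right hx)⟩ ∈ C :=
      fun x hx => by
        have h5 := apply_mem_centralizerIn hψ₀ ⟨x, hWe (Subgroup.mem_sup_right hx)⟩ (P := Q) hx.2
        rwa [hψ₀Q] at h5
    obtain ⟨a, ha, hae⟩ := exists_aut_of_hom (restrict_mem hψ₀ hWe) (P := W) fun x => by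
      have key : W ≤ (W.comap ψ₀).map (extender S Q (ψ.comp (Subgroup.inclusion hQU))).subtype :=
        sup_le (fun q hq => ⟨⟨q, hWe (Subgroup.mem_sup_left hq)⟩,
          Subgroup.mem_sup_left (hQimg q hq), rfl⟩)
          fun c hc => ⟨⟨c, hWe (Subgroup.mem_sup_right hc)⟩,
          Subgroup.mem_sup_right (hCimg c hc), rfl⟩
      obtain ⟨z, hz, hze⟩ := key x.2
      show ψ₀ (Subgroup.inclusion hWe x) ∈ W
      rw [show Subgroup.inclusion hWe x = z from Subtype.ext hze.symm]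
      exact hz
    have haQ : ∀ q : Q, (a ⟨q, Subgroup.mem_sup_left q.2⟩ : Ω) = ψ ⟨q, hQU q.2⟩ := fun q => by
      rw [hae]
      exact hψ₀e (q : Ω) q.2 _
    have haC : ∀ c : C, (a ⟨c, Subgroup.mem_sup_right c.2⟩ : Ω) ∈ C := fun c => by
      rw [hae]; exact hCimg c c.2
    let f : C →* C := MonoidHom.mk' (fun c => ⟨a ⟨c, Subgroup.mem_sup_right c.2⟩, haC c⟩)
      fun c d => Subtype.ext (congrArg (fun w : W => (w : Ω)) (map_mul a ⟨c, Subgroup.mem_sup_right c.2⟩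
        ⟨d, Subgroup.mem_sup_right d.2⟩))
    have hf : Function.Bijective f := Finite.injective_iff_bijective.1 fun c d e => by
      have e1 : a ⟨c, Subgroup.mem_sup_right c.2⟩ = a ⟨d, Subgroup.mem_sup_right d.2⟩ :=
        Subtype.ext (congrArg (fun w : C => (w : Ω)) e)
      exact Subtype.ext (congrArg (fun w : W => (w : Ω)) (a.injective e1))
    let α : C ≃* C := MulEquiv.ofBijective f hf
    have hαZ : (Z.subgroupOf C).map α.toMonoidHom = Z.subgroupOf C := by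
      refine Subgroup.eq_of_le_of_card_ge ?_
        (Subgroup.card_map_of_injective α.injective (K := Z.subgroupOf C)).ge
      rintro _ ⟨c, hc', rfl⟩
      refine ⟨haC c, ?_⟩
      show (a ⟨c, _⟩ : Ω) ∈ Q
      rw [show (a ⟨(c : Ω), Subgroup.mem_sup_right c.2⟩ : Ω) = ψ ⟨(c : Ω), hQU hc'.2⟩ from haQ ⟨c, hc'.2⟩]
      exact hψQ.le (apply_mem_imgSub ψ _ hc'.2)
    let ā := QuotientGroup.congr (Z.subgroupOf C) (Z.subgroupOf C) α hαZ
    have hāV : ∀ y ∈ V', ā y ∈ V' := by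
      let g : (⊤ : Subgroup (↥C ⧸ Z.subgroupOf C)) ≃* (⊤ : Subgroup (↥C ⧸ Z.subgroupOf C)) :=
        (Subgroup.topEquiv.trans ā).trans Subgroup.topEquiv.symm
      rintro _ ⟨y, hy, rfl⟩
      exact ⟨g y, (isFunctorial_zjA p _ _ hC' g).le ⟨y, hy, rfl⟩, rfl⟩
    -- the composite fixing `Q`
    set U' := Subgroup.zpowers (v : Ω) ⊔ Q with hU'
    have hU'U : U' ≤ U := sup_le (Subgroup.zpowers_le.2 v.2) hQU
    have hvC : (v : Ω) ∈ C := hVC hv
    have hψW : ∀ y : U', ψ (Subgroup.inclusion hU'U y) ∈ W := by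
      have key : U' ≤ (W.comap ψ).map U.subtype := by
        refine sup_le (Subgroup.zpowers_le.2 ⟨v, ?_, rfl⟩)
          fun q hq => ⟨⟨q, hQU hq⟩, Subgroup.mem_sup_left (hψQ.le (apply_mem_imgSub ψ _ hq)), rfl⟩
        show ψ v ∈ W
        refine Subgroup.mem_sup_right ?_
        have h5 := apply_mem_centralizerIn hψ v (P := Q) hvC.2
        rwa [hψQ] at h5
      intro y
      obtain ⟨z, hz, hze⟩ := key y.2
      rw [show Subgroup.inclusion hU'U y = z from Subtype.ext hze.symm]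
      exact hz
    obtain ⟨b, hb, hbe⟩ := exists_comp (restrict_mem hψ hU'U)
      (autGroup_hom_mem (sup_le hQS hCS) (Subgroup.inv_mem _ ha)) hψW
    have hbQ : ∀ q : Q, b ⟨q, Subgroup.mem_sup_right q.2⟩ = (q : Ω) := fun q => by
      rw [hbe]
      show ((a⁻¹ ⟨ψ (Subgroup.inclusion hU'U ⟨q, _⟩), _⟩ : W) : Ω) = _
      rw [show (⟨ψ (Subgroup.inclusion hU'U ⟨(q : Ω), Subgroup.mem_sup_right q.2⟩), hψW _⟩ : W) =
        a ⟨q, Subgroup.mem_sup_left q.2⟩ from Subtype.ext (haQ q).symm, MulAut.inv_apply_self]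
    have hz0 : ∀ y : (Subgroup.zpowers (v : Ω)), (y : Ω) ∈ C := fun y =>
      (Subgroup.zpowers_le.2 hvC) y.2
    set v' : Ω := b ⟨v, Subgroup.mem_sup_left (Subgroup.mem_zpowers _)⟩ with hv'
    have hbimg : imgSub b Q = Q := by
      ext x
      constructor
      · intro hx
        obtain ⟨y, hy, rfl⟩ := mem_imgSub.1 hx
        rw [show b y = b ⟨(⟨(y : Ω), hy⟩ : Q), Subgroup.mem_sup_right hy⟩ from rfl, hbQ]
        exact hy
      · intro hx
        exact mem_imgSub.2 ⟨⟨x, Subgroup.mem_sup_right hx⟩, hx, hbQ ⟨x, hx⟩⟩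
    have hbN : b.comp (Subgroup.inclusion (le_sup_left : Subgroup.zpowers (v : Ω) ≤ U')) ∈
        N.Hom (Subgroup.zpowers (v : Ω)) := by
      rw [hN]
      refine ⟨restrict_mem hb le_sup_left, Subgroup.zpowers_le.2 hvC, fun y => ?_, b, hb,
        fun y => rfl, hbQ⟩
      have h5 := apply_mem_centralizerIn hb (Subgroup.inclusion le_sup_left y) (P := Q) (hz0 y).2
      rwa [hbimg] at h5
    have hv'V : v' ∈ V := (stronglyClosed_of_isNormal hVn).2 (Subgroup.zpowers (v : Ω))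
      (Subgroup.zpowers_le.2 hv) _ hbN ⟨v, Subgroup.mem_zpowers _⟩
    have hav : (α ⟨v', hVC hv'V⟩ : Ω) = ψ v := by
      show ((a ⟨v', Subgroup.mem_sup_right (hVC hv'V)⟩ : W) : Ω) = ψ v
      have e : (⟨v', Subgroup.mem_sup_right (hVC hv'V)⟩ : W) =
          a⁻¹ ⟨ψ v, hψW ⟨v, Subgroup.mem_sup_left (Subgroup.mem_zpowers _)⟩⟩ :=
        Subtype.ext (hbe _)
      rw [e, MulAut.apply_inv_self]
    rw [← hav, hVmem]
    exact hāV _ ((hVmem ⟨v', hVC hv'V⟩).1 hv'V)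
  -- `Q V` is normal
  have hT : F.StronglyClosed (Q ⊔ V) := by
    refine ⟨sup_le hQS (hVC.trans hCS), fun R hR φ hφ x => ?_⟩
    obtain ⟨ψ, hψ, hψR, hψQ⟩ := hQ.2 R φ hφ
    have hx : (x : Ω) ∈ ((Q ⊔ V : Subgroup Ω) : Set Ω) := hR x.2
    rw [Subgroup.coe_mul_of_right_le_normalizer_left Q V ((hVC.trans hCS).trans (le_normalizer_of_isNormal hQ))] at hx
    obtain ⟨q, hq, v, hv, hqv⟩ := hx
    have hvU : v ∈ R ⊔ Q := by
      rw [show v = q⁻¹ * x by rw [← hqv]; group]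
      exact Subgroup.mul_mem _ (Subgroup.mem_sup_right (Q.inv_mem hq)) (Subgroup.mem_sup_left x.2)
    rw [← hψR x, show Subgroup.inclusion le_sup_left x =
      (⟨q, Subgroup.mem_sup_right hq⟩ : (R ⊔ Q : Subgroup Ω)) * ⟨v, hvU⟩ from Subtype.ext hqv.symm, map_mul]
    exact Subgroup.mul_mem _ (Subgroup.mem_sup_left (hψQ.le (apply_mem_imgSub ψ _ hq)))
      (Subgroup.mem_sup_right (hclose _ ψ hψ le_sup_right hψQ ⟨v, hvU⟩ hv))
  haveI : Group.IsNilpotent Q := (hS.to_le hQS).isNilpotent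
  set n := Group.nilpotencyClass Q with hn
  let c : ℕ → Subgroup Ω := fun i =>
    if i ≤ n then (Subgroup.upperCentralSeries Q i).map Q.subtype else Q ⊔ V
  have hcn : (Subgroup.upperCentralSeries Q n).map Q.subtype = Q := by
    rw [Subgroup.upperCentralSeries_nilpotencyClass, ← MonoidHom.range_eq_map, Subgroup.range_subtype]
  have hQVn : F.IsNormal (Q ⊔ V) := by
    refine Fusion87.isNormal_of_series hS hF c (n := n + 1) ?_ ?_ ?_ ?_
    · show (if 0 ≤ n then _ else _) = (⊥ : Subgroup Ω)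
      rw [if_pos (Nat.zero_le _), Subgroup.upperCentralSeries_zero, Subgroup.map_bot]
    · show (if n + 1 ≤ n then _ else _) = _
      rw [if_neg (by omega)]
    · intro i _
      show F.StronglyClosed (if i ≤ n then _ else _)
      split_ifs
      · refine stronglyClosed_of_isNormal (isNormal_of_characteristic hQ (Subgroup.map_subtype_le _) ?_)
        rw [Subgroup.subgroupOf, Subgroup.comap_map_eq_self_of_injective Q.subtype_injective]
        infer_instance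
      · exact hT
    · intro i hi x hx q hq
      change x ∈ (if i + 1 ≤ n then _ else _) at hx
      show _ ∈ (if i ≤ n then _ else _)
      have hVQ : ∀ v ∈ V, ∀ y ∈ Q, y * v = v * y := fun v hv => hcommQ v (hVC hv)
      rw [if_pos (by omega : i ≤ n)]
      by_cases h' : i + 1 ≤ n
      · rw [if_pos h'] at hx
        have hq' : q ∈ ((Q ⊔ V : Subgroup Ω) : Set Ω) := hq
        rw [Subgroup.coe_mul_of_right_le_normalizer_left Q V
          ((hVC.trans hCS).trans (le_normalizer_of_isNormal hQ))] at hq'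
        obtain ⟨q', hq'', v, hv, rfl⟩ := hq'
        have hxQ : x ∈ Q := Subgroup.map_subtype_le _ hx
        rw [show q' * v * x * (q' * v)⁻¹ * x⁻¹ = q' * (v * x) * v⁻¹ * q'⁻¹ * x⁻¹ by group,
          ← hVQ v hv x hxQ, show q' * (x * v) * v⁻¹ * q'⁻¹ * x⁻¹ = q' * x * q'⁻¹ * x⁻¹ by group]
        exact Fusion87.upperCentralSeries_step i hx hq''
      · rw [if_neg h'] at hx
        rw [show i = n by omega, hcn]
        -- modulo `Q`, the subgroup is abelian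
        have hcom : ∀ y ∈ Q ⊔ V, ∀ z ∈ Q ⊔ V, z * y * z⁻¹ * y⁻¹ ∈ Q := by
          have hVV : ∀ y ∈ V, ∀ z ∈ V, z * y * z⁻¹ * y⁻¹ ∈ Q := by
            intro y hy z hz
            have hy' := (hVmem ⟨y, hVC hy⟩).1 hy
            have hz' := (hVmem ⟨z, hVC hz⟩).1 hz
            obtain ⟨y₁, hy₁, hye⟩ := hy'
            obtain ⟨z₁, hz₁, hze⟩ := hz'
            have hz2 : z₁ * y₁ = y₁ * z₁ := (Subgroup.mem_centralizer_iff.mp hy₁.2 z₁ hz₁.1)
            refine ((hθ (⟨z, hVC hz⟩ * ⟨y, hVC hy⟩ * (⟨z, hVC hz⟩ : C)⁻¹ * (⟨y, hVC hy⟩ : C)⁻¹)).1 ?_).2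
            rw [map_mul, map_mul, map_mul, map_inv, map_inv, ← hye, ← hze, ← map_mul, hz2, map_mul,
              mul_inv_cancel_right, mul_inv_cancel]
          intro y hy z hz
          have hy' : y ∈ ((Q ⊔ V : Subgroup Ω) : Set Ω) := hy
          have hz' : z ∈ ((Q ⊔ V : Subgroup Ω) : Set Ω) := hz
          rw [Subgroup.coe_mul_of_right_le_normalizer_left Q V
            ((hVC.trans hCS).trans (le_normalizer_of_isNormal hQ))] at hy' hz'
          obtain ⟨a, ha, b, hb, rfl⟩ := hy'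
          obtain ⟨a', ha', b', hb', rfl⟩ := hz'
          have h1 : b' * a = a * b' := (hVQ b' hb' a ha).symm
          have h2 : b' * a'⁻¹ = a'⁻¹ * b' := (hVQ b' hb' _ (Q.inv_mem ha')).symm
          have h3 : b * a'⁻¹ = a'⁻¹ * b := (hVQ b hb _ (Q.inv_mem ha')).symm
          rw [show a' * b' * (a * b) * (a' * b')⁻¹ * (a * b)⁻¹ =
            a' * (b' * a) * (b * b'⁻¹) * a'⁻¹ * b⁻¹ * a⁻¹ by group, h1]
          have h4 : b * b'⁻¹ * a'⁻¹ = a'⁻¹ * (b * b'⁻¹) :=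
            (hVQ _ (V.mul_mem hb (V.inv_mem hb')) _ (Q.inv_mem ha')).symm
          have h5 : b' * a'⁻¹ = a'⁻¹ * b' := h2
          rw [show a' * (a * b') * (b * b'⁻¹) * a'⁻¹ * b⁻¹ * a⁻¹ =
            a' * a * b' * ((b * b'⁻¹) * a'⁻¹) * b⁻¹ * a⁻¹ by group, h4,
            show a' * a * b' * (a'⁻¹ * (b * b'⁻¹)) * b⁻¹ * a⁻¹ =
            a' * a * (b' * a'⁻¹) * ((b * b'⁻¹) * b⁻¹) * a⁻¹ by group, h5,
            show a' * a * (a'⁻¹ * b') * (b * b'⁻¹ * b⁻¹) * a⁻¹ =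
            (a' * a * a'⁻¹) * (b' * b * b'⁻¹ * b⁻¹) * a⁻¹ by group]
          exact Q.mul_mem (Q.mul_mem (Q.mul_mem (Q.mul_mem ha' ha) (Q.inv_mem ha')) (hVV b hb b' hb'))
            (Q.inv_mem ha)
        exact hcom x hx q hq
  have hVQ' : V ≤ Q := le_sup_right.trans (hmax _ hQVn)
  refine wSub_ne_bot (isPositive_zjA p) hC' htop (eq_bot_iff.mpr fun y hy => ?_)
  obtain ⟨x, rfl⟩ := QuotientGroup.mk'_surjective _ y
  exact (hθ x).mpr ⟨x.2, hVQ' ((hVmem x).2 hy)⟩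

end Cfsg.Agent.Lib.Fusion
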