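import Cfsg.Agent.Lib.QuadStab.QuaternionPair
import Cfsg.Agent.Lib.BTBlock.Sub.SectionOps
import Cfsg.Agent.Lib.Involution.BaerSuzuki

/-!
No quadratic action of groups without quaternion pairs in odd characteristic.
-/

set_option autoImplicit false

namespace Cfsg.Agent.Lib.QuadStab

open Subgroup Cfsg
open scoped commutatorElement

theorem commutator_eq_bot_of_quadratic {G : Type*} [Group G] [Finite G] {p : ℕ} [Fact p.Prime]
    (hp : p ≠ 2) (V H : Subgroup G) (hV : IsElementaryAbelian p V)
    (hHV : H ≤ normalizer (V : Set G))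
    (hirr : ∀ U : Subgroup G, U ≤ V → H ≤ normalizer (U : Set G) → U = ⊥ ∨ U = V)
    [((centralizer (V : Set G)).subgroupOf H).Normal]
    (hq : NoQuatPair (↥H ⧸ (centralizer (V : Set G)).subgroupOf H))
    (A : Subgroup G) (hA : A ≤ H) (hquad : ⁅⁅V, A⁆, A⁆ = ⊥) : ⁅V, A⁆ = ⊥ := by
  classical
  letI : CommGroup V := { (inferInstance : Group V) with mul_comm := hV.1.is_comm.comm }
  let θ : H →* MulAut V := Coprime.conjAut hHV
  let ρ : H →* (AddMonoid.End (Additive V))ˣ := (BTBlock.Sub.autEnd.comp θ).toHomUnits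
  haveI : Finite (AddMonoid.End (Additive V)) :=
    Finite.of_injective (fun f => (f : Additive V → Additive V)) DFunLike.coe_injective
  haveI : Finite (AddMonoid.End (Additive V))ˣ := Finite.of_injective Units.val Units.val_injective
  have hρ : ∀ h : H, ρ h = 1 ↔ h ∈ (centralizer (V : Set G)).subgroupOf H := by
    intro h
    rw [mem_subgroupOf, mem_centralizer_iff]
    constructor
    · intro e v hv
      have h1 := DFunLike.congr_fun (congrArg Units.val e) (Additive.ofMul (⟨v, hv⟩ : V))
      have h2 : (h : G) * v * (h : G)⁻¹ = v := congrArg (fun z => ((Additive.toMul z : V) : G)) h1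
      exact (mul_inv_eq_iff_eq_mul.mp h2).symm
    · intro e
      refine Units.ext (AddMonoidHom.ext fun z => ?_)
      show Additive.ofMul (θ h (Additive.toMul z)) = z
      refine congrArg Additive.ofMul (Subtype.ext ?_)
      show (h : G) * ((Additive.toMul z : V) : G) * (h : G)⁻¹ = _
      rw [← e _ (Additive.toMul z).2, mul_inv_cancel_right]
      rfl
  have hker : ρ.ker = (centralizer (V : Set G)).subgroupOf H :=
    Subgroup.ext fun h => MonoidHom.mem_ker.trans (hρ h)
  have hR : NoQuatPair ρ.range :=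
    hq.of_surjective ((QuotientGroup.quotientKerEquivRange ρ).toMonoidHom.comp
      (QuotientGroup.quotientMulEquivOfEq hker.symm).toMonoidHom)
      ((QuotientGroup.quotientKerEquivRange ρ).surjective.comp
        (QuotientGroup.quotientMulEquivOfEq hker.symm).surjective)
  have hsq : ∀ a : H, (a : G) ∈ A → ((ρ a : AddMonoid.End (Additive V)) - 1) *
      ((ρ a : AddMonoid.End (Additive V)) - 1) = 0 := by
    intro a ha
    refine AddMonoidHom.ext fun z => ?_
    set d : Additive V := (ρ a : AddMonoid.End (Additive V)) z - z with hd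
    show (ρ a : AddMonoid.End (Additive V)) d - d = 0
    rw [sub_eq_zero]
    have hd' : ((Additive.toMul d : V) : G) = ⁅(a : G), ((Additive.toMul z : V) : G)⁆ := by
      rw [hd, commutatorElement_def]
      show (a : G) * _ * (a : G)⁻¹ / _ = _
      rw [div_eq_mul_inv]
    have hmem : ((Additive.toMul d : V) : G) ∈ ⁅V, A⁆ := by
      rw [hd', ← commutatorElement_inv]
      exact inv_mem (commutator_mem_commutator (Additive.toMul z).2 ha)
    have h1 : ⁅((Additive.toMul d : V) : G), (a : G)⁆ = 1 := by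
      have := commutator_mem_commutator hmem ha
      rwa [hquad, mem_bot] at this
    refine congrArg Additive.ofMul (Subtype.ext ?_)
    show (a : G) * ((Additive.toMul d : V) : G) * (a : G)⁻¹ = _
    rw [← commutatorElement_eq_one_iff_mul_comm.mp h1, mul_inv_cancel_right]
    rfl
  rw [commutator_eq_bot_iff_le_centralizer, le_centralizer_iff]
  intro a ha
  rw [← mem_subgroupOf (K := H) (h := ⟨a, hA ha⟩), ← hρ]
  set c := ρ.rangeRestrict ⟨a, hA ha⟩ with hc
  suffices c = 1 from congrArg Subtype.val this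
  have hMp : ∀ z : Additive V, p • z = 0 := fun z =>
    congrArg Additive.ofMul (Subtype.ext (hV.2 _ (Additive.toMul z).2) : (Additive.toMul z : V) ^ p = 1)
  obtain ⟨N, hN, hNp, hcN⟩ := Involution.baer_suzuki_element (p := p) c (by
    intro g
    obtain ⟨_, h, rfl⟩ := g
    have hb : (((ρ h * ρ ⟨a, hA ha⟩ * (ρ h)⁻¹ : (AddMonoid.End (Additive V))ˣ)) : AddMonoid.End (Additive V)) - 1 =
        (ρ h : AddMonoid.End (Additive V)) * ((ρ ⟨a, hA ha⟩ : AddMonoid.End (Additive V)) - 1) *
          ((ρ h)⁻¹ : (AddMonoid.End (Additive V))ˣ) := by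
      rw [mul_sub, mul_one, sub_mul, Units.mul_inv, Units.val_mul, Units.val_mul]
    have hle : Subgroup.closure ({ρ ⟨a, hA ha⟩, ρ h * ρ ⟨a, hA ha⟩ * (ρ h)⁻¹} :
        Set (AddMonoid.End (Additive V))ˣ) ≤ ρ.range := by
      rw [closure_le]
      rintro z (rfl | rfl)
      · exact ⟨_, rfl⟩
      · exact ⟨h * ⟨a, hA ha⟩ * h⁻¹, by rw [map_mul, map_mul, map_inv]⟩
    have key := isPGroup_of_noQuatPair hp hMp _ (ρ h * ρ ⟨a, hA ha⟩ * (ρ h)⁻¹) (hsq _ ha) (by
        rw [hb]
        simp only [mul_assoc]
        rw [← mul_assoc (((ρ h)⁻¹ : (AddMonoid.End (Additive V))ˣ) : AddMonoid.End (Additive V)),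
          Units.inv_mul, one_mul, ← mul_assoc ((ρ ⟨a, hA ha⟩ : AddMonoid.End (Additive V)) - 1),
          hsq _ ha, zero_mul, mul_zero])
      (hR.of_injective (Subgroup.inclusion hle) (Subgroup.inclusion_injective hle))
    refine (key.comap_of_injective ρ.range.subtype Subtype.val_injective).to_le ?_
    rw [closure_le]
    rintro z (rfl | rfl)
    · exact subset_closure (Or.inl rfl)
    · exact subset_closure (Or.inr rfl))
  -- a normal `p`-subgroup centralises the irreducible module
  set P := N.comap ρ.rangeRestrict with hP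
  let U : Subgroup G :=
    { carrier := {v | v ∈ V ∧ ∀ h : H, h ∈ P → (h : G) * v * (h : G)⁻¹ = v}
      one_mem' := ⟨one_mem _, fun h _ => by simp⟩
      mul_mem' := fun {u v} hu hv => ⟨mul_mem hu.1 hv.1, fun h hh => by
        calc (h : G) * (u * v) * (h : G)⁻¹ = ((h : G) * u * (h : G)⁻¹) * ((h : G) * v * (h : G)⁻¹) := by group
          _ = u * v := by rw [hu.2 h hh, hv.2 h hh]⟩
      inv_mem' := fun {u} hu => ⟨inv_mem hu.1, fun h hh => by
        calc (h : G) * u⁻¹ * (h : G)⁻¹ = ((h : G) * u * (h : G)⁻¹)⁻¹ := by group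
          _ = u⁻¹ := by rw [hu.2 h hh]⟩ }
  have hHU : H ≤ normalizer (U : Set G) := Coprime.le_normalizer_of_conj_mem fun k hk v hv => by
    refine ⟨(mem_normalizer_iff.mp (hHV hk) v).mp hv.1, fun h hh => ?_⟩
    have h1 : (⟨k, hk⟩ : H)⁻¹ * h * ⟨k, hk⟩ ∈ P := by
      have := (hN.comap ρ.rangeRestrict).conj_mem h hh (⟨k, hk⟩⁻¹)
      rwa [inv_inv] at this
    have h2 := hv.2 _ h1
    push_cast at h2
    calc (h : G) * (k * v * k⁻¹) * (h : G)⁻¹ = k * (k⁻¹ * h * k * v * (k⁻¹ * h * k)⁻¹) * k⁻¹ := by group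
      _ = k * v * k⁻¹ := by rw [h2]
  have hcH : ρ.rangeRestrict ⟨a, hA ha⟩ ∈ N := hcN
  rcases hirr U (fun v hv => hv.1) hHU with hU | hU
  · -- fixed points of a `p`-group
    by_cases hV1 : V = ⊥
    · refine Subtype.ext ((hρ _).mpr ?_)
      rw [mem_subgroupOf, hV1, mem_centralizer_iff]
      intro v hv
      rw [SetLike.mem_coe, mem_bot] at hv
      simp [hv]
    exfalso
    have hne : Nontrivial (Additive V) := (Subgroup.nontrivial_iff_ne_bot V).mpr hV1
    let act : N →* MulAut (Multiplicative (Additive V)) :=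
      { toFun := fun n =>
          { toFun := fun z => Multiplicative.ofAdd (((n : ρ.range) : (AddMonoid.End (Additive V))ˣ).val z.toAdd)
            invFun := fun z => Multiplicative.ofAdd ((((n : ρ.range) : (AddMonoid.End (Additive V))ˣ)⁻¹).val z.toAdd)
            left_inv := fun z => congrArg Multiplicative.ofAdd (DFunLike.congr_fun (Units.inv_mul ((n : ρ.range) : (AddMonoid.End (Additive V))ˣ)) z.toAdd)
            right_inv := fun z => congrArg Multiplicative.ofAdd (DFunLike.congr_fun (Units.mul_inv ((n : ρ.range) : (AddMonoid.End (Additive V))ˣ)) z.toAdd)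
            map_mul' := fun y z => congrArg Multiplicative.ofAdd (map_add _ _ _) }
        map_one' := MulEquiv.ext fun z => rfl
        map_mul' := fun m n => MulEquiv.ext fun z => rfl }
    letI : MulAction N (Multiplicative (Additive V)) := MulAction.compHom _ act
    have hdvd : p ∣ Nat.card (Multiplicative (Additive V)) := by
      obtain ⟨z, hz⟩ := exists_ne (0 : Additive V)
      have : addOrderOf z = p := addOrderOf_eq_prime (hMp z) hz
      exact this ▸ addOrderOf_dvd_natCard z
    obtain ⟨z, hz, hz1⟩ := hNp.exists_fixed_point_of_prime_dvd_card_of_fixed_point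
      (Multiplicative (Additive V)) hdvd (a := 1) (fun n => map_one (act n))
    have hmem : ((Additive.toMul z.toAdd : V) : G) ∈ U := by
      refine ⟨(Additive.toMul z.toAdd).2, fun h hh => ?_⟩
      exact congrArg (fun t : Multiplicative (Additive V) => ((Additive.toMul t.toAdd : V) : G))
        (hz ⟨ρ.rangeRestrict h, hh⟩)
    rw [hU, mem_bot] at hmem
    exact hz1.symm (congrArg (fun t : V => Multiplicative.ofAdd (Additive.ofMul t)) (Subtype.ext hmem : _ = (1 : V))).symm.symm
  · refine Subtype.ext ((hρ _).mpr ?_)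
    rw [mem_subgroupOf, mem_centralizer_iff]
    intro v hv
    have hv' : v ∈ U := hU ▸ hv
    exact (mul_inv_eq_iff_eq_mul.mp (hv'.2 ⟨a, hA ha⟩ hcH)).symm

end Cfsg.Agent.Lib.QuadStab
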