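import Cfsg.Agent.Lib.QuadStab.QuaternionPair
import Cfsg.Agent.Lib.SL2.Partition

/-!
`PSL(2, q)`, `q` odd, has no quaternion pair: its Sylow 2-subgroups are images of generalised
quaternion groups.
-/

set_option autoImplicit false

namespace Cfsg.Agent.Lib.QuadStab

open SL2

theorem noQuatPair_PSLtwo {F : Type*} [Field F] [Fintype F] (hodd : Odd (Fintype.card F)) :
    NoQuatPair (PSLtwo F) := by
  classical
  haveI : Fact (Nat.Prime 2) := ⟨Nat.prime_two⟩
  intro x y hxy hx hy
  have hinv : ∀ z : SLtwo F, z * z = 1 → proj z = 1 := by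
    intro z hz
    by_cases h1 : z = 1
    · rw [h1, map_one]
    · rw [eq_neg_one_of_mul_self_eq_one (two_ne_zero_iff_odd.2 hodd) hz h1]
      exact proj_eq_one_iff.2 neg_one_mem_center
  have hker : IsPGroup 2 (proj (F := F)).ker := fun z => ⟨1, by
    have hz : (z : SLtwo F) ∈ Subgroup.center (SLtwo F) := proj_eq_one_iff.1 z.2
    apply Subtype.ext
    rcases (mem_center_iff_eq _).1 hz with h | h <;>
      simp [h, pow_two]⟩
  obtain ⟨P, hP⟩ := (hxy.comap_of_ker_isPGroup proj hker).exists_le_sylow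
  obtain ⟨k, -, -, ⟨e⟩⟩ := LinGroup.exists_sylow_two_equiv_quaternion hodd P
  obtain ⟨a, ha⟩ := proj_surjective x
  obtain ⟨b, hb⟩ := proj_surjective y
  have haP : a ∈ P := hP (show proj a ∈ Subgroup.closure ({x, y} : Set (PSLtwo F)) by
    rw [ha]; exact Subgroup.subset_closure (Set.mem_insert _ _))
  have hbP : b ∈ P := hP (show proj b ∈ Subgroup.closure ({x, y} : Set (PSLtwo F)) by
    rw [hb]; exact Subgroup.subset_closure (Set.mem_insert_of_mem _ rfl))
  have key : ∀ z : (P : Subgroup (SLtwo F)), proj ((z : SLtwo F) * (z : SLtwo F)) ≠ 1 → ∃ i, e z = QuaternionGroup.a i := by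
    intro z hz
    rcases hei : e z with i | i
    · exact ⟨i, rfl⟩
    · exfalso
      have h4 : z * z * (z * z) = 1 := e.injective (by
        simp only [map_mul, map_one, hei, QuaternionGroup.xa_mul_xa, QuaternionGroup.a_mul_a,
          QuaternionGroup.one_def]
        congr 1
        have := ZMod.natCast_self (2 * 2 ^ k)
        push_cast at this ⊢
        linear_combination this)
      refine hz ?_
      have h5 : (z : SLtwo F) * z * ((z : SLtwo F) * z) = 1 := congrArg Subtype.val h4
      exact hinv _ h5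
  obtain ⟨i, hi⟩ := key ⟨a, haP⟩ (by rw [map_mul, ha]; exact hx)
  obtain ⟨j, hj⟩ := key ⟨b, hbP⟩ (by rw [map_mul, hb]; exact hy)
  have hab : (⟨a, haP⟩ : (P : Subgroup (SLtwo F))) * ⟨b, hbP⟩ = ⟨b, hbP⟩ * ⟨a, haP⟩ := e.injective (by
    rw [map_mul, map_mul, hi, hj, QuaternionGroup.a_mul_a, QuaternionGroup.a_mul_a, add_comm])
  rw [← ha, ← hb, ← map_mul, ← map_mul]
  exact congrArg proj (congrArg Subtype.val hab)

end Cfsg.Agent.Lib.QuadStab
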