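import Cfsg.Agent.Lib.QuadStab.WeylElement
import Cfsg.Agent.Lib.LinGroup.SLTwoTwoSylow

/-!
Groups with two noncommuting elements of a common 2-group, neither squaring to one, as obstruction
to quadratic action in odd characteristic.
-/

set_option autoImplicit false

namespace Cfsg.Agent.Lib.QuadStab

open SL2

universe u v

/-- No 2-subgroup contains two noncommuting elements whose squares are nontrivial. -/
def NoQuatPair (X : Type*) [Group X] : Prop :=
  ∀ x y : X, IsPGroup 2 (Subgroup.closure ({x, y} : Set X)) → x * x ≠ 1 → y * y ≠ 1 → x * y = y * x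

theorem NoQuatPair.of_injective {X Y : Type*} [Group X] [Group Y] (f : X →* Y)
    (hf : Function.Injective f) (h : NoQuatPair Y) : NoQuatPair X := by
  intro x y hxy hx hy
  apply hf
  rw [map_mul, map_mul]
  refine h _ _ ?_ (fun e => hx (hf (by rw [map_mul, e, map_one])))
    (fun e => hy (hf (by rw [map_mul, e, map_one])))
  have := hxy.map f
  rwa [MonoidHom.map_closure, Set.image_pair] at this

theorem NoQuatPair.of_surjective {X Y : Type*} [Group X] [Finite X] [Group Y] (f : X →* Y)
    (hf : Function.Surjective f) (h : NoQuatPair X) : NoQuatPair Y := by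
  haveI : Finite Y := Finite.of_surjective f hf
  intro x y hxy hx hy
  set R := Subgroup.closure ({x, y} : Set Y)
  let K := R.comap f
  let S : Sylow 2 K := default
  let π : K →* R := (f.comp K.subtype).codRestrict R fun k => k.2
  have hπ : Function.Surjective π := fun r => by
    obtain ⟨k, hk⟩ := hf r
    exact ⟨⟨k, show f k ∈ R from hk ▸ r.2⟩, Subtype.ext hk⟩
  haveI : Fact (Nat.Prime 2) := ⟨Nat.prime_two⟩
  have hindex : (((S : Subgroup K).map π).index).Coprime 2 :=
    Nat.Coprime.coprime_dvd_left (Subgroup.index_map_dvd _ hπ)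
      (((Fact.out : Nat.Prime 2).coprime_iff_not_dvd.mpr S.not_dvd_index).symm)
  have htop : (S : Subgroup K).map π = ⊤ := by
    rw [← Subgroup.index_eq_one]
    obtain ⟨k, hk⟩ := IsPGroup.iff_card.mp hxy
    exact Nat.eq_one_of_dvd_coprimes (hindex.pow_right k) dvd_rfl (hk ▸ Subgroup.index_dvd_card _)
  obtain ⟨a, ha, hax⟩ := htop.ge (Subgroup.mem_top
    (⟨x, Subgroup.subset_closure (Set.mem_insert _ _)⟩ : R))
  obtain ⟨b, hb, hby⟩ := htop.ge (Subgroup.mem_top
    (⟨y, Subgroup.subset_closure (Set.mem_insert_of_mem _ rfl)⟩ : R))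
  have hax' : f a = x := congrArg Subtype.val hax
  have hby' : f b = y := congrArg Subtype.val hby
  have hS : IsPGroup 2 (Subgroup.closure ({(a : X), (b : X)} : Set X)) :=
    (S.2.map K.subtype).to_le ((Subgroup.closure_le _).mpr (Set.insert_subset ⟨a, ha, rfl⟩
      (Set.singleton_subset_iff.mpr ⟨b, hb, rfl⟩)))
  have hab := congrArg f (h a b hS (fun e => hx (by rw [← hax', ← map_mul, e, map_one]))
    (fun e => hy (by rw [← hby', ← map_mul, e, map_one])))
  rwa [map_mul, map_mul, hax', hby'] at hab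

theorem exists_quat_pair {p : ℕ} [Fact p.Prime] (hp : p ≠ 2) :
    ∃ x y : SLtwo (ZMod p), IsPGroup 2 (Subgroup.closure ({x, y} : Set (SLtwo (ZMod p)))) ∧
      x * x = -1 ∧ y * y = -1 ∧ y * x = -1 * (x * y) := by
  obtain ⟨a, b, hab⟩ := ZMod.sq_add_sq p (-1)
  let q1 : SLtwo (ZMod p) := ⟨!![0, 1; -1, 0], by rw [Matrix.det_fin_two_of]; ring⟩
  let q2 : SLtwo (ZMod p) := ⟨!![a, b; b, -a], by
    rw [Matrix.det_fin_two_of]; linear_combination -hab⟩
  have e1 : q1 * q1 = -1 := by
    apply Subtype.ext
    change (!![0, 1; -1, 0] : Matrix (Fin 2) (Fin 2) (ZMod p)) * !![0, 1; -1, 0] = -1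
    ext i j; fin_cases i <;> fin_cases j <;> simp [Matrix.mul_apply, Fin.sum_univ_two]
  have e2 : q2 * q2 = -1 := by
    apply Subtype.ext
    change (!![a, b; b, -a] : Matrix (Fin 2) (Fin 2) (ZMod p)) * !![a, b; b, -a] = -1
    ext i j; fin_cases i <;> fin_cases j <;>
      simp [Matrix.mul_apply, Fin.sum_univ_two] <;> first | linear_combination hab | ring
  have e12 : q2 * q1 = -(q1 * q2) := by
    apply Subtype.ext
    change (!![a, b; b, -a] : Matrix (Fin 2) (Fin 2) (ZMod p)) * !![0, 1; -1, 0] =
      -(!![0, 1; -1, 0] * !![a, b; b, -a])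
    ext i j; fin_cases i <;> fin_cases j <;> simp [Matrix.mul_apply, Fin.sum_univ_two]
  have hn : q1 ^ (2 * 2) = 1 := by
    rw [pow_mul, pow_two q1, e1, pow_two]; simp
  have hinv : q1⁻¹ = -q1 := inv_eq_of_mul_eq_one_right (by rw [mul_neg, e1, neg_neg])
  have hc : q2 * q1 * q2⁻¹ = q1⁻¹ := by
    rw [e12, neg_mul, mul_inv_cancel_right, hinv]
  let ψ := LinGroup.quatHom (n := 2) q1 q2 hn (by rw [e2, pow_two, e1]) hc
  have hr : IsPGroup 2 ψ.range := (IsPGroup.of_card (n := 3) (by
    rw [Nat.card_eq_fintype_card, QuaternionGroup.card]; rfl)).of_surjective ψ.rangeRestrict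
      ψ.rangeRestrict_surjective
  have h1 : ψ (.a 1) = q1 := by
    show LinGroup.zmodPowHom q1 hn _ = q1
    rw [show ((1 : ZMod (2 * 2))) = ((1 : ℤ) : ZMod (2 * 2)) by simp, LinGroup.zmodPowHom_intCast]
    simp
  have h2 : ψ (.xa 0) = q2 := by
    show q2 * LinGroup.zmodPowHom q1 hn _ = q2
    rw [show (Multiplicative.ofAdd (0 : ZMod (2 * 2))) = 1 from rfl, map_one, mul_one]
  exact ⟨q1, q2, hr.to_le ((Subgroup.closure_le _).mpr (Set.insert_subset ⟨_, h1⟩
    (Set.singleton_subset_iff.mpr ⟨_, h2⟩))), e1, e2, by rw [e12, neg_one_mul]⟩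

variable {p : ℕ} [Fact p.Prime]

/-- Two quadratic automorphisms generate a `p`-group if the group has no quaternion pair. -/
theorem isPGroup_of_noQuatPair {M : Type v} [AddCommGroup M] [Finite M] (hp : p ≠ 2)
    (hM : ∀ x : M, p • x = 0) (a b : (AddMonoid.End M)ˣ)
    (ha : ((a : AddMonoid.End M) - 1) * ((a : AddMonoid.End M) - 1) = 0)
    (hb : ((b : AddMonoid.End M) - 1) * ((b : AddMonoid.End M) - 1) = 0)
    (hq : NoQuatPair (Subgroup.closure ({a, b} : Set (AddMonoid.End M)ˣ))) :
    IsPGroup p (Subgroup.closure ({a, b} : Set (AddMonoid.End M)ˣ)) := by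
  suffices ∀ n, ∀ (M : Type v) [AddCommGroup M] [Finite M], Nat.card M = n → (∀ x : M, p • x = 0) →
      ∀ a b : (AddMonoid.End M)ˣ, ((a : AddMonoid.End M) - 1) * ((a : AddMonoid.End M) - 1) = 0 →
      ((b : AddMonoid.End M) - 1) * ((b : AddMonoid.End M) - 1) = 0 →
      NoQuatPair (Subgroup.closure ({a, b} : Set (AddMonoid.End M)ˣ)) →
      IsPGroup p (Subgroup.closure ({a, b} : Set (AddMonoid.End M)ˣ)) from
    this _ M rfl hM a b ha hb hq
  intro n
  induction n using Nat.strong_induction_on with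
  | _ n ih =>
  intro M _ _ hn hM a b ha hb hq
  by_contra hnp
  set L := Subgroup.closure ({a, b} : Set (AddMonoid.End M)ˣ) with hL
  by_cases hirr : ∀ N : AddSubgroup M, (∀ x ∈ N, (a : AddMonoid.End M) x ∈ N) →
      (∀ x ∈ N, (b : AddMonoid.End M) x ∈ N) → N = ⊥ ∨ N = ⊤
  · obtain ⟨φ, hφ, hm, -⟩ := exists_sl_two_hom hp hM a b ha hb hirr hnp
    have hne : φ (-1) ≠ 1 := fun h => by
      have h1 : ((1 : AddMonoid.End M)) = -1 := by rw [← hm, h, Units.val_one]
      have hz : ∀ s : M, s = 0 := fun s => by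
        have h2 : 2 • s = 0 := by
          rw [two_nsmul]
          nth_rewrite 1 [show s = -s from DFunLike.congr_fun h1 s]
          exact neg_add_cancel s
        rw [← AddMonoid.addOrderOf_eq_one_iff]
        exact Nat.eq_one_of_dvd_coprimes
          ((Nat.coprime_primes Nat.prime_two (Fact.out : p.Prime)).mpr (Ne.symm hp))
          (addOrderOf_dvd_of_nsmul_eq_zero h2) (addOrderOf_dvd_of_nsmul_eq_zero (hM s))
      exact hnp fun g => ⟨0, Subtype.ext (Units.ext (AddMonoidHom.ext fun x => (hz _).trans (hz _).symm))⟩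
    obtain ⟨x, y, hxy, hx, hy, hyx⟩ := exists_quat_pair hp
    have hq' : NoQuatPair φ.range :=
      hq.of_injective (Subgroup.inclusion hφ) (Subgroup.inclusion_injective hφ)
    have h2 := hxy.map φ.rangeRestrict
    rw [MonoidHom.map_closure, Set.image_pair] at h2
    have hrr : ∀ g, φ g ≠ 1 → φ.rangeRestrict g ≠ 1 := fun g hg e => hg (congrArg Subtype.val e)
    have hc := congrArg Subtype.val (hq' _ _ h2 (by rw [← map_mul, hx]; exact hrr _ hne)
      (by rw [← map_mul, hy]; exact hrr _ hne))
    change φ x * φ y = φ y * φ x at hc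
    rw [← map_mul, ← map_mul, hyx, map_mul φ (-1)] at hc
    exact hne (mul_eq_right.mp hc.symm)
  push Not at hirr
  obtain ⟨N, hNa, hNb, hN0, hN1⟩ := hirr
  have hLN : ∀ g ∈ L, ∀ x ∈ N, (g : AddMonoid.End M) x ∈ N := by
    intro g hg
    induction hg using Subgroup.closure_induction with
    | mem g hg =>
      rcases hg with rfl | rfl
      · exact hNa
      · exact hNb
    | one => exact fun x hx => hx
    | mul g h _ _ hg hh => exact fun x hx => hg _ (hh x hx)
    | inv g _ hg =>
      intro x hx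
      have hcan : ∀ y : M, ((g⁻¹ : (AddMonoid.End M)ˣ) : AddMonoid.End M) ((g : AddMonoid.End M) y) = y :=
        fun y => DFunLike.congr_fun (Units.inv_mul g) y
      have hf : Function.Bijective (fun y : N => (⟨(g : AddMonoid.End M) y, hg _ y.2⟩ : N)) :=
        Finite.injective_iff_bijective.1 fun y z h => Subtype.ext (by
          have h1 := congrArg (fun t : M => ((g⁻¹ : (AddMonoid.End M)ˣ) : AddMonoid.End M) t)
            (congrArg Subtype.val h)
          simpa only [hcan] using h1)
      obtain ⟨y, hy⟩ := hf.2 ⟨x, hx⟩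
      rw [show x = (g : AddMonoid.End M) y from (congrArg Subtype.val hy).symm]
      rw [hcan]; exact y.2
  -- restriction and quotient
  let r₁ : L →* AddMonoid.End N :=
    { toFun := fun g => (((g : (AddMonoid.End M)ˣ) : AddMonoid.End M).comp N.subtype).codRestrict N
        fun x => hLN g g.2 x x.2
      map_one' := AddMonoidHom.ext fun x => Subtype.ext rfl
      map_mul' := fun g h => AddMonoidHom.ext fun x => Subtype.ext rfl }
  let r₂ : L →* AddMonoid.End (M ⧸ N) :=
    { toFun := fun g => QuotientAddGroup.map N N ((g : (AddMonoid.End M)ˣ) : AddMonoid.End M)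
        fun x hx => hLN g g.2 x hx
      map_one' := AddMonoidHom.ext fun y => by
        induction y using QuotientAddGroup.induction_on with | H x => rfl
      map_mul' := fun g h => AddMonoidHom.ext fun y => by
        induction y using QuotientAddGroup.induction_on with | H x => rfl }
  let la : L := ⟨a, Subgroup.subset_closure (Set.mem_insert _ _)⟩
  let lb : L := ⟨b, Subgroup.subset_closure (Set.mem_insert_of_mem _ rfl)⟩
  have hgen : Subgroup.closure ({la, lb} : Set L) = ⊤ := by
    have h : Subgroup.closure (Subtype.val ⁻¹' ({a, b} : Set (AddMonoid.End M)ˣ) : Set L) = ⊤ :=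
      Subgroup.closure_closure_coe_preimage
    rw [eq_top_iff, ← h]
    refine Subgroup.closure_mono fun g hg => ?_
    rcases hg with hg | hg
    · exact Or.inl (Subtype.ext hg)
    · exact Or.inr (Subtype.ext hg)
  have hcN : Nat.card N < n := by
    rw [← hn]
    exact lt_of_le_of_ne (Nat.card_le_card_of_injective N.subtype N.subtype_injective)
      fun h => hN1 (AddSubgroup.eq_top_of_card_eq N h)
  have hcQ : Nat.card (M ⧸ N) < n := by
    have h1 := AddSubgroup.card_eq_card_quotient_mul_card_addSubgroup N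
    have h2 : 1 < Nat.card N := (AddSubgroup.one_lt_card_iff_ne_bot N).mpr hN0
    have h3 : 0 < Nat.card (M ⧸ N) := Nat.card_pos
    rw [← hn, h1]
    exact lt_mul_of_one_lt_right h3 h2
  have hstep : ∀ (M' : Type v) [AddCommGroup M'] [Finite M'] (r : L →* AddMonoid.End M'),
      Nat.card M' < n → (∀ x : M', p • x = 0) →
      ((r la - 1) * (r la - 1) = 0) → ((r lb - 1) * (r lb - 1) = 0) →
      IsPGroup p r.toHomUnits.range := by
    intro M' _ _ r hlt hM' ha' hb'
    haveI : Finite (AddMonoid.End M) := Finite.of_injective (fun f => (f : M → M)) DFunLike.coe_injective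
    have hrange : r.toHomUnits.range =
        Subgroup.closure ({r.toHomUnits la, r.toHomUnits lb} : Set (AddMonoid.End M')ˣ) := by
      rw [MonoidHom.range_eq_map, ← hgen, MonoidHom.map_closure, Set.image_pair]
    rw [hrange]
    refine ih _ hlt M' rfl hM' _ _ ha' hb' ?_
    rw [← hrange]
    exact hq.of_surjective r.toHomUnits.rangeRestrict r.toHomUnits.rangeRestrict_surjective
  have h1 : IsPGroup p r₁.toHomUnits.range := hstep N r₁ hcN (fun x => Subtype.ext (by simpa using hM x))
    (AddMonoidHom.ext fun x => Subtype.ext (DFunLike.congr_fun ha (x : M)))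
    (AddMonoidHom.ext fun x => Subtype.ext (DFunLike.congr_fun hb (x : M)))
  have h2 : IsPGroup p r₂.toHomUnits.range := hstep (M ⧸ N) r₂ hcQ
    (fun y => by
      induction y using QuotientAddGroup.induction_on with
      | H x => rw [← QuotientAddGroup.mk_nsmul, hM, QuotientAddGroup.mk_zero])
    (AddMonoidHom.ext fun y => by
      induction y using QuotientAddGroup.induction_on with
      | H x => exact congrArg (QuotientAddGroup.mk (s := N)) (DFunLike.congr_fun ha x))
    (AddMonoidHom.ext fun y => by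
      induction y using QuotientAddGroup.induction_on with
      | H x => exact congrArg (QuotientAddGroup.mk (s := N)) (DFunLike.congr_fun hb x))
  apply hnp
  intro g
  obtain ⟨i, hi⟩ := h1 ⟨_, g, rfl⟩
  obtain ⟨j, hj⟩ := h2 ⟨_, g, rfl⟩
  set g' : L := g ^ p ^ (i + j)
  have e1 : r₁ g' = 1 := by
    have := congrArg (fun t => (((t : r₁.toHomUnits.range) : (AddMonoid.End N)ˣ) : AddMonoid.End N)) hi
    simp only [SubgroupClass.coe_pow, Units.val_pow_eq_pow_val, MonoidHom.coe_toHomUnits,
      OneMemClass.coe_one, Units.val_one] at this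
    show r₁ (g ^ p ^ (i + j)) = 1
    rw [pow_add, pow_mul, map_pow, map_pow, this, one_pow]
  have e2 : r₂ g' = 1 := by
    have := congrArg (fun t => (((t : r₂.toHomUnits.range) : (AddMonoid.End (M ⧸ N))ˣ) :
      AddMonoid.End (M ⧸ N))) hj
    simp only [SubgroupClass.coe_pow, Units.val_pow_eq_pow_val, MonoidHom.coe_toHomUnits,
      OneMemClass.coe_one, Units.val_one] at this
    show r₂ (g ^ p ^ (i + j)) = 1
    rw [pow_add, mul_comm, pow_mul, map_pow, map_pow, this, one_pow]
  refine ⟨i + j + 1, ?_⟩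
  rw [pow_succ, pow_mul]
  apply Subtype.ext
  show ((g' : (AddMonoid.End M)ˣ)) ^ p = 1
  set G' : AddMonoid.End M := ((g' : (AddMonoid.End M)ˣ) : AddMonoid.End M)
  have hN' : ∀ x ∈ N, G' x = x := by
    intro x hx
    have h := congrArg Subtype.val (DFunLike.congr_fun e1 (⟨x, hx⟩ : N))
    exact h
  have hQ' : ∀ x, G' x - x ∈ N := fun x => by
    rw [← QuotientAddGroup.eq_iff_sub_mem]
    exact DFunLike.congr_fun e2 (x : M ⧸ N)
  have hk : ∀ k : ℕ, ∀ x, (G' ^ k) x = x + k • (G' x - x) := by
    intro k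
    induction k with
    | zero => intro x; simp
    | succ k ihk =>
      intro x
      rw [pow_succ]
      show (G' ^ k) (G' x) = _
      rw [ihk, ← map_sub, hN' _ (hQ' x)]
      rw [succ_nsmul]
      abel
  refine Units.ext (AddMonoidHom.ext fun x => ?_)
  rw [Units.val_pow_eq_pow_val]
  show (G' ^ p) x = x
  rw [hk, hM, add_zero]

end Cfsg.Agent.Lib.QuadStab
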