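import Cfsg.Agent.Lib.QuadStab.QuaternionPair
import Cfsg.Agent.Lib.Ree.SylowTwo

/-!
Small Ree groups have no quaternion pair: their Sylow 2-subgroups are elementary abelian.
-/

set_option autoImplicit false

namespace Cfsg.Agent.Lib.QuadStab

open Cfsg.Agent.Lib.Ree

theorem noQuatPair_RG {K : Type*} [Field K] [Fintype K] {m : ℕ} (F : Facts K m) :
    NoQuatPair ↥(RG K m) := by
  haveI : Fact (Nat.Prime 2) := ⟨Nat.prime_two⟩
  intro x y hxy hx _
  obtain ⟨S, hS⟩ := hxy.exists_le_sylow
  exact absurd ((F.sylow_two_elementary S).2 x (hS (Subgroup.subset_closure (Set.mem_insert _ _)))) hx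

end Cfsg.Agent.Lib.QuadStab
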